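import Mathlib
import Cfsg.Agent.Lib.GL.Action

/-!
The number of nilpotent `n × n` matrices over the field with `q` elements is `q ^ (n * (n - 1))`
(Fine–Herstein), by counting pairs of a nilpotent matrix and a vector along the cyclic subspace of the vector.
-/

set_option autoImplicit false

open Matrix

namespace Cfsg.Agent.NilpCount

variable {F : Type*} [Field F]

/-- The shift `e i ↦ e (i + 1)`. -/
def shift (F : Type*) [Field F] (k : ℕ) : Matrix (Fin k) (Fin k) F :=
  Matrix.of fun a b => if a.val = b.val + 1 then 1 else 0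

theorem shift_pow_apply (k m : ℕ) (a b : Fin k) :
    (shift F k ^ m) a b = if a.val = b.val + m then 1 else 0 := by
  induction m generalizing a b with
  | zero => simp [Matrix.one_apply, Fin.ext_iff]
  | succ m ih =>
    rw [pow_succ, Matrix.mul_apply]
    by_cases hb : b.val + 1 < k
    · rw [Finset.sum_eq_single (⟨b.val + 1, hb⟩ : Fin k)]
      · rw [ih]; simp [shift, add_assoc, add_comm 1 m]
      · intro c _ hc
        have : c.val ≠ b.val + 1 := fun h => hc (Fin.ext h)
        simp [shift, this]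
      · simp
    · rw [Finset.sum_eq_zero (fun c _ => by
        have : c.val ≠ b.val + 1 := fun h => hb (h ▸ c.2)
        simp [shift, this]), if_neg]
      have := a.2
      omega

theorem shift_pow_self (k : ℕ) : shift F k ^ k = 0 := by
  ext a b
  rw [shift_pow_apply, if_neg (by have := a.2; omega), Matrix.zero_apply]

theorem isNilpotent_fromBlocks_iff {k : ℕ} {β : Type*} [Fintype β] [DecidableEq β]
    (B : Matrix (Fin k) β F) (D : Matrix β β F) :
    IsNilpotent (fromBlocks (shift F k) B 0 D) ↔ IsNilpotent D := by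
  have key : ∀ m : ℕ, ∃ X, fromBlocks (shift F k) B 0 D ^ m = fromBlocks (shift F k ^ m) X 0 (D ^ m) := by
    intro m
    induction m with
    | zero => exact ⟨0, by simp [fromBlocks_one]⟩
    | succ m ih =>
      obtain ⟨X, hX⟩ := ih
      exact ⟨_, by rw [pow_succ, hX, fromBlocks_multiply, pow_succ, pow_succ]; simp; rfl⟩
  constructor
  · rintro ⟨m, hm⟩
    obtain ⟨X, hX⟩ := key m
    rw [hX] at hm
    refine ⟨m, ?_⟩
    ext i j
    simpa using congrFun (congrFun hm (Sum.inr i)) (Sum.inr j)
  · rintro ⟨m, hm⟩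
    obtain ⟨X, hX⟩ := key (m + k)
    refine ⟨(m + k) * 2, ?_⟩
    rw [pow_mul, hX, pow_add, pow_add, hm, shift_pow_self, zero_mul, mul_zero, pow_two, fromBlocks_multiply]
    simp

variable [Fintype F]

/-- The number of nilpotent matrices on `Fin n`. -/
noncomputable def nilCount (F : Type*) [Field F] (n : ℕ) : ℕ :=
  Nat.card {M : Matrix (Fin n) (Fin n) F // IsNilpotent M}

/-- Nilpotent matrices extending a given shift on an independent tuple. -/
theorem card_extension (k l : ℕ) (w : Fin k → (Fin k ⊕ Fin l → F)) (hw : LinearIndependent F w) :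
    Nat.card {T : Matrix (Fin k ⊕ Fin l) (Fin k ⊕ Fin l) F //
      IsNilpotent T ∧ ∀ b, T *ᵥ w b = ∑ a, shift F k a b • w a} = Fintype.card F ^ (k * l) * nilCount F l := by
  classical
  obtain ⟨P, hP⟩ := GL.exists_GL_of_linearIndependent (v := fun b : Fin k => (Pi.single (Sum.inl b) 1 : Fin k ⊕ Fin l → F))
    (w := w) (by
      have h := (Pi.basisFun F (Fin k ⊕ Fin l)).linearIndependent.comp Sum.inl Sum.inl_injective
      convert h using 1
      funext b
      simp) hw
  set Q : Matrix (Fin k ⊕ Fin l) (Fin k ⊕ Fin l) F := (P : Matrix (Fin k ⊕ Fin l) (Fin k ⊕ Fin l) F) with hQ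
  set Qi : Matrix (Fin k ⊕ Fin l) (Fin k ⊕ Fin l) F := ((P⁻¹ : GL (Fin k ⊕ Fin l) F) : Matrix (Fin k ⊕ Fin l) (Fin k ⊕ Fin l) F) with hQi
  have h1 : Q * Qi = 1 := Units.mul_inv P
  have h2 : Qi * Q = 1 := Units.inv_mul P
  have hconj : ∀ (M : Matrix (Fin k ⊕ Fin l) (Fin k ⊕ Fin l) F), IsNilpotent (Q * M * Qi) ↔ IsNilpotent M := by
    intro M
    refine exists_congr fun m => ?_
    rw [show (Q * M * Qi) ^ m = Q * M ^ m * Qi from Units.conj_pow P M m]
    refine ⟨fun h => ?_, fun h => by rw [h, mul_zero, zero_mul]⟩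
    calc M ^ m = Qi * (Q * M ^ m * Qi) * Q := by simp only [← mul_assoc]; rw [h2, one_mul, mul_assoc, h2, mul_one]
      _ = 0 := by rw [h, mul_zero, zero_mul]
  have hcol : ∀ (M : Matrix (Fin k ⊕ Fin l) (Fin k ⊕ Fin l) F),
      (∀ b, (Q * M * Qi) *ᵥ w b = ∑ a, shift F k a b • w a) ↔ (∀ b i, M i (Sum.inl b) = Sum.elim (fun a => shift F k a b) 0 i) := by
    intro M
    refine forall_congr' fun b => ?_
    have e : ∑ a, shift F k a b • w a = Q *ᵥ (fun i => Sum.elim (fun a => shift F k a b) 0 i) := by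
      have e2 : (fun i => Sum.elim (fun a => shift F k a b) 0 i : Fin k ⊕ Fin l → F) =
          ∑ a, shift F k a b • (Pi.single (Sum.inl a) 1 : Fin k ⊕ Fin l → F) := by
        funext i
        rw [Finset.sum_apply]
        rcases i with a | c
        · simp [Pi.single_apply]
        · simp [Pi.single_apply]
      rw [e2, Matrix.mulVec_sum]
      exact Finset.sum_congr rfl fun a _ => by rw [Matrix.mulVec_smul, hP]
    rw [e, ← hP b, Matrix.mulVec_mulVec, mul_assoc, h2, mul_one, ← Matrix.mulVec_mulVec,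
      Matrix.mulVec_single_one]
    constructor
    · intro h i
      have := congrArg (fun z => Qi *ᵥ z) h
      simp only [Matrix.mulVec_mulVec, h2, Matrix.one_mulVec] at this
      exact congrFun this i
    · intro h
      exact congrArg (fun z => Q *ᵥ z) (funext h)
  let e1 : {T : Matrix (Fin k ⊕ Fin l) (Fin k ⊕ Fin l) F //
      IsNilpotent T ∧ ∀ b, T *ᵥ w b = ∑ a, shift F k a b • w a} ≃
      Matrix (Fin k) (Fin l) F × {D : Matrix (Fin l) (Fin l) F // IsNilpotent D} :=
    { toFun := fun T => ((Qi * T.1 * Q).toBlocks₁₂, ⟨(Qi * T.1 * Q).toBlocks₂₂, by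
        obtain ⟨hn, hc⟩ := T.2
        have hT : T.1 = Q * (Qi * T.1 * Q) * Qi := by
          simp only [← mul_assoc]; rw [h1, one_mul, mul_assoc, h1, mul_one]
        set M := Qi * T.1 * Q with hM
        rw [hT, hconj] at hn
        rw [hT, hcol] at hc
        have : M = fromBlocks (shift F k) M.toBlocks₁₂ 0 M.toBlocks₂₂ := by
          ext (a | a) (b | b)
          · simp [hc b]
          · rfl
          · simp [hc b]
          · rfl
        rw [this] at hn
        exact (isNilpotent_fromBlocks_iff _ _).1 hn⟩)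
      invFun := fun x => ⟨Q * fromBlocks (shift F k) x.1 0 x.2.1 * Qi, (hconj _).2 ((isNilpotent_fromBlocks_iff _ _).2 x.2.2),
        (hcol _).2 fun b i => by rcases i with a | a <;> simp⟩
      left_inv := fun T => by
        apply Subtype.ext
        have hT : T.1 = Q * (Qi * T.1 * Q) * Qi := by
          simp only [← mul_assoc]; rw [h1, one_mul, mul_assoc, h1, mul_one]
        set M := Qi * T.1 * Q with hM
        have hc := T.2.2
        rw [hT, hcol] at hc
        rw [hT]
        show Q * fromBlocks (shift F k) M.toBlocks₁₂ 0 M.toBlocks₂₂ * Qi = Q * M * Qi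
        congr 2
        ext (a | a) (b | b)
        · simp [hc b]
        · rfl
        · simp [hc b]
        · rfl
      right_inv := fun x => by
        have hx : ∀ M : Matrix (Fin k ⊕ Fin l) (Fin k ⊕ Fin l) F, Qi * (Q * M * Qi) * Q = M := fun M => by
          simp only [← mul_assoc]; rw [h2, one_mul, mul_assoc, h2, mul_one]
        refine Prod.ext ?_ (Subtype.ext ?_)
        · show (Qi * (Q * _ * Qi) * Q).toBlocks₁₂ = _
          rw [hx, toBlocks_fromBlocks₁₂]
        · show (Qi * (Q * _ * Qi) * Q).toBlocks₂₂ = _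
          rw [hx, toBlocks_fromBlocks₂₂] }
  rw [Nat.card_congr e1, Nat.card_prod, nilCount]
  congr 1
  show Nat.card (Fin k → Fin l → F) = _
  rw [Nat.card_fun, Nat.card_fun, Nat.card_fin, Nat.card_fin, Nat.card_eq_fintype_card, ← pow_mul, mul_comm]

/-- `m`-step orbits of a nilpotent map are independent. -/
theorem linearIndependent_chain {n : ℕ} (T : Matrix (Fin n) (Fin n) F) (v : Fin n → F) (m : ℕ)
    (hm : (T ^ (m + 1)) *ᵥ v = 0) (hm' : (T ^ m) *ᵥ v ≠ 0) :
    LinearIndependent F (fun i : Fin (m + 1) => (T ^ i.val) *ᵥ v) := by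
  rw [Fintype.linearIndependent_iff]
  intro c hc
  by_contra hne
  push Not at hne
  have hex : ∃ j : ℕ, ∃ hj : j < m + 1, c ⟨j, hj⟩ ≠ 0 := by
    obtain ⟨i, hi⟩ := hne
    exact ⟨i.val, i.2, hi⟩
  classical
  obtain ⟨hj, hcj⟩ := Nat.find_spec hex
  set j := Nat.find hex with hjdef
  have h := congrArg (fun z => (T ^ (m - j)) *ᵥ z) hc
  simp only [Matrix.mulVec_zero, Matrix.mulVec_sum, Matrix.mulVec_smul, Matrix.mulVec_mulVec, ← pow_add] at h
  rw [Finset.sum_eq_single (⟨j, hj⟩ : Fin (m + 1))] at h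
  · simp only [Nat.sub_add_cancel (Nat.lt_succ_iff.1 hj)] at h
    exact hcj ((smul_eq_zero.1 h).resolve_right hm')
  · intro i _ hi
    rcases lt_trichotomy i.val j with h' | h' | h'
    · have := Nat.find_min hex h'
      push Not at this
      rw [this i.2, zero_smul]
    · exact absurd (Fin.ext h') hi
    · have : m - j + i.val = (m + 1) + (m - j + i.val - (m + 1)) := by omega
      rw [this, add_comm (m + 1), pow_add, ← Matrix.mulVec_mulVec, hm, Matrix.mulVec_zero, smul_zero]
  · simp

theorem card_pairs (n : ℕ) :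
    Nat.card {p : Matrix (Fin n) (Fin n) F × (Fin n → F) // IsNilpotent p.1 ∧ p.2 ≠ 0} =
      ∑ k ∈ Finset.range n, (∏ i ∈ Finset.range (k + 1), (Fintype.card F ^ n - Fintype.card F ^ i)) *
        (Fintype.card F ^ ((k + 1) * (n - (k + 1))) * nilCount F (n - (k + 1))) := by
  classical
  let f : (Σ k : Fin n, Σ w : {w : Fin (k.val + 1) → (Fin n → F) // LinearIndependent F w},
      {T : Matrix (Fin n) (Fin n) F // IsNilpotent T ∧ ∀ b, T *ᵥ w.1 b = ∑ a, shift F (k.val + 1) a b • w.1 a}) →
      {p : Matrix (Fin n) (Fin n) F × (Fin n → F) // IsNilpotent p.1 ∧ p.2 ≠ 0} :=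
    fun x => ⟨(x.2.2.1, x.2.1.1 0), x.2.2.2.1, x.2.1.2.ne_zero 0⟩
  have chain : ∀ x : (Σ k : Fin n, Σ w : {w : Fin (k.val + 1) → (Fin n → F) // LinearIndependent F w},
      {T : Matrix (Fin n) (Fin n) F // IsNilpotent T ∧ ∀ b, T *ᵥ w.1 b = ∑ a, shift F (k.val + 1) a b • w.1 a}),
      (∀ i : Fin (x.1.val + 1), (x.2.2.1 ^ i.val) *ᵥ x.2.1.1 0 = x.2.1.1 i) ∧
        (x.2.2.1 ^ (x.1.val + 1)) *ᵥ x.2.1.1 0 = 0 := by
    rintro ⟨k, ⟨w, hw⟩, ⟨T, hT, hc⟩⟩
    have hstep : ∀ i : ℕ, ∀ hi : i < k.val + 1, (T ^ i) *ᵥ w 0 = w ⟨i, hi⟩ := by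
      intro i
      induction i with
      | zero => intro hi; rw [pow_zero, Matrix.one_mulVec]; rfl
      | succ i ih =>
        intro hi
        rw [pow_succ', ← Matrix.mulVec_mulVec, ih (by omega), hc, Finset.sum_eq_single (⟨i + 1, hi⟩ : Fin _)]
        · simp [shift]
        · intro a _ ha
          have : a.val ≠ i + 1 := fun h => ha (Fin.ext h)
          simp [shift, this]
        · simp
    refine ⟨fun i => hstep i.val i.2, ?_⟩
    show (T ^ (k.val + 1)) *ᵥ w 0 = 0
    rw [pow_succ', ← Matrix.mulVec_mulVec, hstep k.val (by omega), hc, Finset.sum_eq_zero]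
    intro a _
    have : a.val ≠ k.val + 1 := by have := a.2; omega
    simp [shift, this]
  have hf : Function.Bijective f := by
    refine ⟨?_, ?_⟩
    · intro x y hxy
      obtain ⟨hx, hx'⟩ := chain x
      obtain ⟨hy, hy'⟩ := chain y
      obtain ⟨k, ⟨w, hw⟩, ⟨T, hT⟩⟩ := x
      obtain ⟨k', ⟨w', hw'⟩, ⟨T', hT'⟩⟩ := y
      obtain ⟨hTT, hvv⟩ : T = T' ∧ w 0 = w' 0 := Prod.ext_iff.1 (congrArg Subtype.val hxy)
      subst hTT
      dsimp only at hx hx' hy hy'
      rw [← hvv] at hy hy'
      have le1 : ∀ a b : ℕ, (T ^ (a + 1)) *ᵥ w 0 = 0 → a < b → (T ^ b) *ᵥ w 0 = 0 := fun a b ha hab => by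
        rw [show b = (b - (a + 1)) + (a + 1) by omega, pow_add, ← Matrix.mulVec_mulVec, ha, Matrix.mulVec_zero]
      obtain rfl : k = k' := by
        rcases lt_trichotomy k k' with h | h | h
        · exact absurd ((hy ⟨k'.val, Nat.lt_succ_self _⟩).symm.trans (le1 k.val k'.val hx' h)) (hw'.ne_zero _)
        · exact h
        · exact absurd ((hx ⟨k.val, Nat.lt_succ_self _⟩).symm.trans (le1 k'.val k.val hy' h)) (hw.ne_zero _)
      obtain rfl : w = w' := funext fun i => (hx i).symm.trans (hy i)
      rfl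
    · rintro ⟨⟨T, v⟩, hT, hv⟩
      obtain ⟨N, hN⟩ := hT
      have hex : ∃ m, (T ^ (m + 1)) *ᵥ v = 0 := ⟨N, by rw [pow_succ, hN, zero_mul, Matrix.zero_mulVec]⟩
      set m := Nat.find hex with hmdef
      have hm := Nat.find_spec hex
      have hm' : (T ^ m) *ᵥ v ≠ 0 := by
        rcases Nat.eq_zero_or_pos m with h | h
        · rw [h, pow_zero, Matrix.one_mulVec]; exact hv
        · intro h0
          refine Nat.find_min hex (show m - 1 < m by omega) ?_
          rw [Nat.sub_add_cancel h]; exact h0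
      have hli := linearIndependent_chain T v m hm hm'
      have hmn : m < n := by
        have := hli.fintype_card_le_finrank
        simp at this
        omega
      refine ⟨⟨⟨m, hmn⟩, ⟨fun i : Fin (m + 1) => (T ^ i.val) *ᵥ v, hli⟩, ⟨T, ⟨N, hN⟩, fun b => ?_⟩⟩, ?_⟩
      · show T *ᵥ ((T ^ b.val) *ᵥ v) = ∑ a : Fin (m + 1), shift F (m + 1) a b • (T ^ a.val) *ᵥ v
        rw [Matrix.mulVec_mulVec, ← pow_succ']
        by_cases hb : b.val + 1 < m + 1
        · rw [Finset.sum_eq_single (⟨b.val + 1, hb⟩ : Fin (m + 1))]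
          · simp [shift]
          · intro a _ ha
            have : a.val ≠ b.val + 1 := fun h => ha (Fin.ext h)
            simp [shift, this]
          · simp
        · rw [Finset.sum_eq_zero, show b.val + 1 = m + 1 by have : b.val < m + 1 := b.2; omega, hm]
          intro a _
          have : a.val ≠ b.val + 1 := by have := a.2; omega
          simp [shift, this]
      · apply Subtype.ext
        refine Prod.ext rfl ?_
        simp [f]
  rw [← Nat.card_eq_of_bijective f hf, Nat.card_sigma, Finset.sum_range]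
  refine Finset.sum_congr rfl fun k _ => ?_
  rw [Nat.card_sigma]
  have hl : k.val + 1 + (n - (k.val + 1)) = n := by have := k.2; omega
  let e : Fin (k.val + 1) ⊕ Fin (n - (k.val + 1)) ≃ Fin n := finSumFinEquiv.trans (finCongr hl)
  have hfib : ∀ w : {w : Fin (k.val + 1) → (Fin n → F) // LinearIndependent F w},
      Nat.card {T : Matrix (Fin n) (Fin n) F // IsNilpotent T ∧ ∀ b, T *ᵥ w.1 b = ∑ a, shift F (k.val + 1) a b • w.1 a} =
        Fintype.card F ^ ((k.val + 1) * (n - (k.val + 1))) * nilCount F (n - (k.val + 1)) := by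
    intro w
    rw [← card_extension (k.val + 1) (n - (k.val + 1)) (fun b => w.1 b ∘ e)
      (w.2.map' (LinearMap.funLeft F F e) (LinearMap.ker_eq_bot.2 (LinearMap.funLeft_injective_of_surjective _ _ _ e.surjective)))]
    refine Nat.card_congr (((Matrix.reindexAlgEquiv F F e.symm).toEquiv).subtypeEquiv fun T => ?_)
    show _ ↔ IsNilpotent (Matrix.reindexAlgEquiv F F e.symm T) ∧ _
    refine and_congr (IsNilpotent.map_iff (Matrix.reindexAlgEquiv F F e.symm).injective).symm (forall_congr' fun b => ?_)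
    have h1 : Matrix.reindexAlgEquiv F F e.symm T *ᵥ (w.1 b ∘ e) = (T *ᵥ w.1 b) ∘ e := by
      rw [Matrix.reindexAlgEquiv_apply, Matrix.reindex_apply, Matrix.submatrix_mulVec_equiv]
      simp [Function.comp_assoc]
    show _ ↔ Matrix.reindexAlgEquiv F F e.symm T *ᵥ (w.1 b ∘ e) = _
    rw [h1]
    constructor
    · intro h
      rw [h]
      funext i
      simp [Finset.sum_apply]
    · intro h
      funext i
      have := congrFun h (e.symm i)
      simpa [Finset.sum_apply] using this
  rw [Finset.sum_congr rfl fun w _ => hfib w, Finset.sum_const, smul_eq_mul, Finset.card_univ,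
    ← Nat.card_eq_fintype_card, card_linearIndependent (by rw [Module.finrank_pi, Fintype.card_fin]; have := k.2; omega),
    ← Fin.prod_univ_eq_prod_range]
  simp [Module.finrank_pi]

theorem identity (q n m : ℕ) (hq : 1 ≤ q) (hm : m ≤ n) :
    ∑ k ∈ Finset.Icc m n, (∏ i ∈ Finset.range k, (q ^ n - q ^ i)) * q ^ ((n - k) * (n - 1)) =
      (∏ i ∈ Finset.range m, (q ^ n - q ^ i)) * q ^ (n * (n - m)) := by
  induction hd : n - m generalizing m with
  | zero =>
    obtain rfl : m = n := by omega
    simp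
  | succ d ih =>
    rw [← Finset.Ico_add_one_right_eq_Icc, Finset.sum_eq_sum_Ico_succ_bot (show m < n + 1 by omega),
      show Finset.Ico (m + 1) (n + 1) = Finset.Icc (m + 1) n from Finset.Ico_add_one_right_eq_Icc (m + 1) n,
      ih (m + 1) (by omega) (by omega), Finset.prod_range_succ, mul_assoc, ← mul_add, hd]
    congr 1
    have hle : q ^ m ≤ q ^ n := Nat.pow_le_pow_right hq (by omega)
    have e1 : (d + 1) * (n - 1) = n * d + m := by
      have hn : n = m + (d + 1) := by omega
      subst hn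
      rw [show m + (d + 1) - 1 = m + d by omega]; ring
    rw [e1, pow_add, ← mul_comm (q ^ m), ← Nat.add_mul, Nat.add_sub_cancel' hle, ← pow_add]
    congr 1; ring

theorem nilCount_eq (n : ℕ) : nilCount F n = Fintype.card F ^ (n * (n - 1)) := by
  induction n using Nat.strong_induction_on with
  | _ n ih =>
    rcases Nat.eq_zero_or_pos n with rfl | hn
    · haveI : Subsingleton {M : Matrix (Fin 0) (Fin 0) F // IsNilpotent M} := ⟨fun a b => Subtype.ext (Subsingleton.elim _ _)⟩
      simp only [nilCount, Nat.zero_mul, pow_zero]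
      exact Nat.card_eq_one_iff_unique.2 ⟨inferInstance, ⟨⟨0, IsNilpotent.zero⟩⟩⟩
    set q := Fintype.card F with hq
    have hq2 : 2 ≤ q := Fintype.one_lt_card
    have h := card_pairs (F := F) n
    have e : Nat.card {p : Matrix (Fin n) (Fin n) F × (Fin n → F) // IsNilpotent p.1 ∧ p.2 ≠ 0} =
        nilCount F n * (q ^ n - 1) := by
      rw [nilCount, hq, ← Fintype.card_fin n, ← Fintype.card_fun, Fintype.card_fin]
      rw [show Fintype.card (Fin n → F) - 1 = Nat.card {v : Fin n → F // v ≠ 0} by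
        classical
        rw [Nat.card_eq_fintype_card, Fintype.card_subtype_compl, Fintype.card_subtype_eq], ← Nat.card_prod]
      exact Nat.card_congr (Equiv.subtypeProdEquivProd (p := fun T => IsNilpotent T) (q := fun v => v ≠ 0))
    rw [e] at h
    have h2 := identity q n 0 (by omega) (Nat.zero_le n)
    rw [Finset.prod_range_zero, one_mul, Nat.sub_zero, ← Finset.Ico_add_one_right_eq_Icc,
      Finset.sum_eq_sum_Ico_succ_bot (show 0 < n + 1 by omega), Finset.prod_range_zero, one_mul, Nat.sub_zero,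
      Finset.sum_Ico_eq_sum_range] at h2
    have hterm : ∀ k ∈ Finset.range n, (∏ i ∈ Finset.range (k + 1), (q ^ n - q ^ i)) *
        (q ^ ((k + 1) * (n - (k + 1))) * nilCount F (n - (k + 1))) =
        (∏ i ∈ Finset.range (0 + 1 + k), (q ^ n - q ^ i)) * q ^ ((n - (0 + 1 + k)) * (n - 1)) := by
      intro k hk
      rw [Finset.mem_range] at hk
      rw [ih _ (by omega), zero_add, add_comm 1 k, ← pow_add]
      congr 2
      rcases Nat.eq_zero_or_pos (n - (k + 1)) with h0 | hpos
      · simp [h0]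
      · obtain ⟨j, hj⟩ : ∃ j, n - (k + 1) = j + 1 := ⟨n - (k + 1) - 1, by omega⟩
        have hnk : n = k + 1 + (j + 1) := by omega
        rw [hj, Nat.add_sub_cancel, show n - 1 = k + (j + 1) by omega]
        ring
    rw [Finset.sum_congr rfl hterm] at h
    have h3 : n + 1 - (0 + 1) = n := by omega
    rw [h3] at h2
    rw [← h, show n * n = n * (n - 1) + n by
      obtain ⟨j, rfl⟩ : ∃ j, n = j + 1 := ⟨n - 1, by omega⟩
      simp only [Nat.add_sub_cancel]; ring, pow_add] at h2
    have hqn : 1 ≤ q ^ n := Nat.one_le_pow _ _ (by omega)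
    have h5 : 0 < q ^ n - 1 := by
      have : q ^ 1 ≤ q ^ n := Nat.pow_le_pow_right (by omega) hn
      rw [pow_one] at this; omega
    refine Nat.eq_of_mul_eq_mul_right h5 ?_
    generalize q ^ (n * (n - 1)) = A at h2 ⊢
    generalize nilCount F n = B at h2 ⊢
    generalize q ^ n = X at h2 hqn h5 ⊢
    rw [Nat.mul_sub, Nat.mul_sub, mul_one, mul_one]
    rw [Nat.mul_sub, mul_one] at h2
    have := Nat.le_mul_of_pos_right B hqn
    have := Nat.le_mul_of_pos_right A hqn
    omega

end Cfsg.Agent.NilpCount
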